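import Mathlib
import Groth.Agent.S2257
import Groth.Agent.HopfSub.Twist

/-!
The reduced subgroup as the lift of an étale quotient with infinitesimal kernel over a perfect field.
-/

set_option autoImplicit false
set_option linter.style.haveILetI false
universe u
open TensorProduct WithConv Groth.Agent.HopfSub

namespace Groth.Agent.EtRetr

variable (k : Type u) [Field k]

/-- A finite étale algebra has as many geometric points as its dimension. -/
theorem card_algHom_of_formallyEtale (R : Type u) [CommRing R] [Algebra k R] [Module.Finite k R]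
    [Algebra.FormallyUnramified k R] :
    Nat.card (R →ₐ[k] AlgebraicClosure k) = Module.finrank k R := by
  let K := AlgebraicClosure k
  let T := K ⊗[k] R
  haveI : IsReduced T := Algebra.FormallyUnramified.isReduced_of_field K T
  haveI : IsArtinianRing T := IsArtinianRing.of_finite K T
  rw [Nat.card_congr (Algebra.TensorProduct.liftEquivRight (R := k) (S := K) (B := R) K),
    S2257.card_algHom_eq_card_primeSpectrum K T, ← Module.finrank_baseChange (R := K) (S := k) (M' := R)]
  show _ = Module.finrank K T
  have := Fintype.ofFinite (MaximalSpectrum T)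
  rw [((IsArtinianRing.equivPi T).restrictScalars K).toLinearEquiv.finrank_eq, Module.finrank_pi_fintype]
  have h : ∀ m : MaximalSpectrum T, Module.finrank K (T ⧸ m.asIdeal) = 1 := fun m => by
    letI := Ideal.Quotient.field m.asIdeal
    rw [← (AlgEquiv.ofBijective (Algebra.ofId K (T ⧸ m.asIdeal))
      IsAlgClosed.algebraMap_bijective_of_isIntegral).toLinearEquiv.finrank_eq, Module.finrank_self]
  simp only [h, Finset.sum_const, Finset.card_univ, smul_eq_mul, mul_one]
  rw [Fintype.card_eq_nat_card]
  refine Nat.card_congr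
    { toFun := fun p => ⟨p.asIdeal, Ideal.IsPrime.isMaximal' p.isPrime⟩
      invFun := fun m => ⟨m.asIdeal, m.isMaximal.isPrime⟩
      left_inv := fun _ => rfl
      right_inv := fun _ => rfl }

variable {k}

/-- Finitely many geometric points make a finitely generated algebra finite. -/
theorem finite_of_finite_algHom (R : Type u) [CommRing R] [Algebra k R] [Algebra.FiniteType k R]
    [Finite (R →ₐ[k] AlgebraicClosure k)] : Module.Finite k R := by
  haveI : IsNoetherianRing R := Algebra.FiniteType.isNoetherianRing k R
  haveI : IsJacobsonRing R := isJacobsonRing_of_finiteType (A := k)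
  let M : Set (Ideal R) := {m | m.IsMaximal}
  have hM : M.Finite := by
    refine (Set.finite_range fun φ : R →ₐ[k] AlgebraicClosure k => RingHom.ker φ).subset fun m hm => ?_
    haveI : m.IsMaximal := hm
    letI := Ideal.Quotient.field m
    haveI : Algebra.FiniteType k (R ⧸ m) := .of_surjective (Ideal.Quotient.mkₐ k m) Ideal.Quotient.mk_surjective
    haveI : Module.Finite k (R ⧸ m) := finite_of_finite_type_of_isJacobsonRing k _
    let i : (R ⧸ m) →ₐ[k] AlgebraicClosure k := IsAlgClosed.lift
    refine ⟨i.comp (Ideal.Quotient.mkₐ k m), ?_⟩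
    ext x
    show i (Ideal.Quotient.mk m x) = 0 ↔ x ∈ m
    rw [map_eq_zero, Ideal.Quotient.eq_zero_iff_mem]
  haveI : Ring.KrullDimLE 0 R := (Ring.krullDimLE_zero_iff).mpr fun p hp => by
    have h1 : sInf {m | p ≤ m ∧ m.IsMaximal} = p := IsJacobsonRing.out ‹_› hp.isRadical
    have hfin : {m | p ≤ m ∧ m.IsMaximal}.Finite := hM.subset fun m h => h.2
    obtain ⟨m, hm, hmp⟩ := (Ideal.IsPrime.inf_le' (f := id) hp (s := hfin.toFinset)).mp (by
      rw [Finset.inf_id_eq_sInf, Set.Finite.coe_toFinset]; exact h1.le)
    rw [Set.Finite.mem_toFinset] at hm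
    exact le_antisymm hm.1 hmp ▸ hm.2
  haveI : IsArtinianRing R := isArtinianRing_iff_isNoetherianRing_krullDimLE_zero.mpr ⟨‹_›, ‹_›⟩
  exact Module.finite_of_isArtinianRing k R

/-- Finite reduced algebras over perfect fields are unramified. -/
theorem formallyUnramified_of_isReduced [PerfectField k] (R : Type u) [CommRing R] [Algebra k R] [Module.Finite k R]
    [IsReduced R] : Algebra.FormallyUnramified k R := by
  haveI : IsArtinianRing R := IsArtinianRing.of_finite k R
  have (m : MaximalSpectrum R) : Algebra.FormallyEtale k (R ⧸ m.asIdeal) := by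
    letI := Ideal.Quotient.field m.asIdeal
    exact Algebra.FormallyEtale.of_isSeparable k _
  haveI : Algebra.FormallyEtale k R :=
    .of_equiv ((IsArtinianRing.equivPi R).restrictScalars k).symm
  infer_instance

variable {A C : Type u} [CommRing A] [HopfAlgebra k A] [CommRing C] [HopfAlgebra k C] (ψ : C →ₐc[k] A)

/-- Geometric points are determined on `C` when the kernel is infinitesimal. -/
theorem algHom_ext_of_local [Algebra.FiniteType k A] (J : Ideal A)
    (hJ : J = Ideal.map (ψ : C →+* A) (RingHom.ker (Bialgebra.counitAlgHom k C))) [IsLocalRing (A ⧸ J)]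
    (f g : A →ₐ[k] AlgebraicClosure k) (h : ∀ c, f (ψ c) = g (ψ c)) : f = g := by
  let φ := (toConv f * (inv' (toConv g))).ofConv
  have hf : f.comp (ψ : C →ₐ[k] A) = g.comp (ψ : C →ₐ[k] A) := AlgHom.ext h
  have hφψ : φ.comp (ψ : C →ₐ[k] A) = (1 : WithConv (C →ₐ[k] AlgebraicClosure k)).ofConv := by
    have h1 : toConv (g.comp (ψ : C →ₐ[k] A)) * toConv ((inv' (toConv g)).ofConv.comp (ψ : C →ₐ[k] A)) = 1 := by
      apply WithConv.ext
      rw [← AlgHom.convMul_comp_bialgHom_distrib, mul_inv']
      exact AlgHom.ext fun b => by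
        change algebraMap k _ (Coalgebra.counit (ψ b)) = algebraMap k _ (Coalgebra.counit b)
        rw [CoalgHomClass.counit_comp_apply]
    rw [← hf] at h1
    rw [← h1]
    show (toConv f * (inv' (toConv g))).ofConv.comp _ = _
    rw [AlgHom.convMul_comp_bialgHom_distrib]
  have hφJ : J ≤ RingHom.ker φ := by
    rw [hJ, Ideal.map_le_iff_le_comap]
    intro c hc
    show φ (ψ c) = 0
    have := AlgHom.congr_fun hφψ c
    rw [AlgHom.comp_apply] at this
    refine this.trans ?_
    show algebraMap k _ (Coalgebra.counit c) = 0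
    rw [show Coalgebra.counit (R := k) c = 0 from hc, map_zero]
  have hεJ : J ≤ RingHom.ker (Bialgebra.counitAlgHom k A) := by
    rw [hJ, Ideal.map_le_iff_le_comap]
    intro c hc
    show Coalgebra.counit (R := k) (ψ c) = 0
    rw [CoalgHomClass.counit_comp_apply]
    exact hc
  -- the local ring `A ⧸ J` has one prime
  haveI : Algebra.FiniteType k (A ⧸ J) := .of_surjective (Ideal.Quotient.mkₐ k J) Ideal.Quotient.mk_surjective
  haveI : IsJacobsonRing (A ⧸ J) := isJacobsonRing_of_finiteType (A := k)
  have hone : ∀ p : Ideal (A ⧸ J), p.IsPrime → p = IsLocalRing.maximalIdeal (A ⧸ J) := by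
    intro p hp
    refine le_antisymm (IsLocalRing.le_maximalIdeal hp.ne_top) ?_
    conv_rhs => rw [← IsJacobsonRing.out (R := A ⧸ J) ‹_› hp.isRadical]
    exact le_sInf fun m hm => (IsLocalRing.eq_maximalIdeal hm.2).ge
  have hker : RingHom.ker φ = RingHom.ker (Bialgebra.counitAlgHom k A) := by
    have key : ∀ p : Ideal A, p.IsPrime → J ≤ p →
        p = (IsLocalRing.maximalIdeal (A ⧸ J)).comap (Ideal.Quotient.mk J) := fun p hp hJp => by
      haveI := hp
      haveI : (p.map (Ideal.Quotient.mk J)).IsPrime :=
        Ideal.map_isPrime_of_surjective Ideal.Quotient.mk_surjective (by rw [Ideal.mk_ker]; exact hJp)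
      rw [← hone (p.map (Ideal.Quotient.mk J)) inferInstance,
        Ideal.comap_map_of_surjective _ Ideal.Quotient.mk_surjective, ← RingHom.ker_eq_comap_bot, Ideal.mk_ker,
        sup_eq_left.mpr hJp]
    exact (key _ (RingHom.ker_isPrime _) hφJ).trans (key _ (RingHom.ker_isPrime _) hεJ).symm
  have hφ1 : toConv φ = 1 := by
    apply WithConv.ext
    refine AlgHom.ext fun a => ?_
    show φ a = algebraMap k _ (Coalgebra.counit a)
    have h0 : a - algebraMap k A (Coalgebra.counit a) ∈ RingHom.ker φ := by
      rw [hker, RingHom.mem_ker, map_sub, Bialgebra.counitAlgHom_apply, AlgHom.commutes]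
      simp
    rw [RingHom.mem_ker, map_sub, sub_eq_zero] at h0
    exact h0.trans (φ.commutes _)
  have h3 : toConv f * inv' (toConv g) = 1 := hφ1
  have : toConv f = toConv g := by
    have h4 := congrArg (· * toConv g) h3
    simp only [mul_assoc, inv'_mul, mul_one, one_mul] at h4
    exact h4
  exact WithConv.toConv_injective this

/-- The composite `C → A → A_red` is bijective. -/
theorem bijective_red [PerfectField k] [Algebra.FiniteType k A] [Algebra.Etale k C] (hψ : Function.Injective ψ)
    (J : Ideal A) (hJ : J = Ideal.map (ψ : C →+* A) (RingHom.ker (Bialgebra.counitAlgHom k C)))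
    [IsLocalRing (A ⧸ J)] :
    Function.Bijective ((Ideal.Quotient.mkₐ k (nilradical A)).comp (ψ : C →ₐ[k] A)) := by
  haveI : Module.Finite k C := Algebra.FormallyUnramified.finite_of_free k C
  haveI : IsReduced C := Algebra.FormallyUnramified.isReduced_of_field k C
  let R := A ⧸ nilradical A
  haveI : IsReduced R := (Ideal.isRadical_iff_quotient_reduced _).mp (Ideal.radical_isRadical _)
  let u : C →ₐ[k] R := (Ideal.Quotient.mkₐ k (nilradical A)).comp (ψ : C →ₐ[k] A)
  have hu : Function.Injective u := (injective_iff_map_eq_zero u).mpr fun c hc => by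
    obtain ⟨n, hn⟩ := mem_nilradical.mp (Ideal.Quotient.eq_zero_iff_mem.mp hc)
    refine IsNilpotent.eq_zero ⟨n, hψ ?_⟩
    rw [map_pow, map_zero]
    exact hn
  have hinj : Function.Injective fun φ : R →ₐ[k] AlgebraicClosure k => φ.comp u := fun φ φ' h =>
    Ideal.Quotient.algHom_ext k (algHom_ext_of_local ψ J hJ _ _ fun c => AlgHom.congr_fun h c)
  haveI : Finite (R →ₐ[k] AlgebraicClosure k) := Finite.of_injective _ hinj
  haveI : Algebra.FiniteType k R := .of_surjective (Ideal.Quotient.mkₐ k _) Ideal.Quotient.mk_surjective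
  haveI : Module.Finite k R := finite_of_finite_algHom R
  haveI := formallyUnramified_of_isReduced (k := k) R
  have h1 : Module.finrank k R ≤ Module.finrank k C := by
    rw [← card_algHom_of_formallyEtale k R, ← card_algHom_of_formallyEtale k C]
    exact Nat.card_le_card_of_injective _ hinj
  have h2 : Module.finrank k C = Module.finrank k R :=
    le_antisymm (LinearMap.finrank_le_finrank_of_injective (f := u.toLinearMap) hu) h1
  exact ⟨hu, (LinearMap.injective_iff_surjective_of_finrank_eq_finrank (f := u.toLinearMap) h2).mp hu⟩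

end Groth.Agent.EtRetr
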